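import Cfsg.Agent.Lib.Helper36.SuBN.Defs
import Cfsg.Agent.Lib.Helper36.SuBN.G1
import Cfsg.Agent.Lib.Helper36.SuBN.G2
import Cfsg.Agent.Lib.Helper36.SuBN.G5
import Cfsg.Agent.Lib.Helper36.SuBN.E1
import Cfsg.Agent.Lib.Helper36.SuBN.E2

set_option autoImplicit false
set_option linter.unusedSectionVars false
set_option linter.unusedVariables false

namespace Cfsg.Agent.Lib.Helper36.SuBN

open Matrix Cfsg.Agent.Lib.Helper86

variable {r d : ℕ} {K : Type*} [Field K] [Fintype K] (σ : K →+* K) [hσ : Fact (∀ x, σ (σ x) = x)]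
  (ε : K) [hε : Fact (ε ≠ 0 ∧ ε + σ ε = 0)]

local notation "Mrr" => Matrix (Fin r) (Fin r) K
local notation "Mrd" => Matrix (Fin r) (Fin d) K
local notation "Mdr" => Matrix (Fin d) (Fin r) K
local notation "𝕍" => Matrix (I3 r d) (I3 r d) K
local notation "𝔾" => suG σ r d
local notation "e_" i => (Sum.inl i : I3 r d)
local notation "w_" c => (Sum.inr (Sum.inl c) : I3 r d)
local notation "f_" i => (Sum.inr (Sum.inr i) : I3 r d)

/-! PIECE A5 (farm SuBN, helper36).  PROOF SKETCH:
Copy SpBN/A5.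
-/

theorem A5_perm_eq {s s' : 𝔾} {π π' : Equiv.Perm (I3 r d)} (hs : IsMono (suRho σ s) π)
    (hs' : IsMono (suRho σ s') π') (h : s⁻¹ * s' ∈ bor σ r d) : π = π' := by
  have h1 : IsMono (suRho σ (s⁻¹ * s')) (π⁻¹ * π') := by
    rw [map_mul]
    exact IsMono.mul (IsMono.inv σ hs) hs'
  have h2 := perm_eq_one_of_bor σ h1 h
  exact (inv_mul_eq_one.mp h2)

theorem SS_inj {s s' : 𝔾} (hs : s ∈ SS σ ε r d) (hs' : s' ∈ SS σ ε r d) (h : s⁻¹ * s' ∈ bor σ r d) : s = s' := by
  rcases hs with ⟨i, j, hij, hv, rfl⟩ | ⟨j, hv, rfl⟩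
  · rcases hs' with ⟨i', j', hij', hv', rfl⟩ | ⟨j', hv', rfl⟩
    · have hσ' := A5_perm_eq σ (isMono_sA σ i j hij) (isMono_sA σ i' j' hij') h
      have e1 := congrArg (fun f : Equiv.Perm (I3 r d) => f (Sum.inl i)) hσ'
      simp only [dbl, Equiv.sumCongr_apply, Sum.map_inl, Equiv.swap_apply_left, Sum.inl.injEq] at e1
      have hi : i = i' := by
        by_cases c1 : i = i'
        · exact c1
        · by_cases c2 : i = j'
          · rw [c2, Equiv.swap_apply_right] at e1
            exfalso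
            have a1 := congrArg Fin.val e1
            have a2 := congrArg Fin.val c2
            omega
          · rw [Equiv.swap_apply_of_ne_of_ne c1 c2] at e1
            exact absurd e1.symm hij
      subst hi
      have hj : j = j' := Fin.ext (by omega)
      subst hj
      rfl
    · have hσ' := A5_perm_eq σ (isMono_sA σ i j hij) (isMono_sL σ ε j') h
      have e1 := congrArg (fun f : Equiv.Perm (I3 r d) => f (Sum.inl j')) hσ'
      simp [dbl, flp] at e1
  · rcases hs' with ⟨i', j', hij', hv', rfl⟩ | ⟨j', hv', rfl⟩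
    · have hσ' := A5_perm_eq σ (isMono_sL σ ε j) (isMono_sA σ i' j' hij') h
      have e1 := congrArg (fun f : Equiv.Perm (I3 r d) => f (Sum.inl j)) hσ'
      simp [dbl, flp] at e1
    · have hj : j = j' := Fin.ext (by omega)
      subst hj
      rfl

end Cfsg.Agent.Lib.Helper36.SuBN
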