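import Cfsg.Agent.Lib.Helper36.SuBN.Defs
import Cfsg.Agent.Lib.Helper36.SuBN.G2
import Cfsg.Agent.Lib.Helper36.SuBN.G4
import Cfsg.Agent.Lib.Helper36.SuBN.E2

set_option autoImplicit false
set_option linter.unusedSectionVars false
set_option linter.unusedVariables false

namespace Cfsg.Agent.Lib.Helper36.SuBN

open Matrix Cfsg.Agent.Lib.Helper86

variable {r d : ℕ} {K : Type*} [Field K] [Fintype K] (σ : K →+* K) [hσ : Fact (∀ x, σ (σ x) = x)]
  (ε : K) [hε : Fact (ε ≠ 0 ∧ ε + σ ε = 0)]

local notation "Mrr" => Matrix (Fin r) (Fin r) K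
local notation "Mrd" => Matrix (Fin r) (Fin d) K
local notation "Mdr" => Matrix (Fin d) (Fin r) K
local notation "𝕍" => Matrix (I3 r d) (I3 r d) K
local notation "𝔾" => suG σ r d
local notation "e_" i => (Sum.inl i : I3 r d)
local notation "w_" c => (Sum.inr (Sum.inl c) : I3 r d)
local notation "f_" i => (Sum.inr (Sum.inr i) : I3 r d)

/-! PIECE RLf1 (farm SuBN, helper36).  PROOF SKETCH:
conj_entry' with g = sL, π = flp j (π⁻¹ = π).  Let suPos d' < suPos c.  If suPos (π d') < suPos (π c): X ∈ bor.  Otherwise both c, d' ∈ {e j, w, f j}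
(these positions r-1, r, .., r+d are adjacent as j = r - 1; case analysis + omega) and (π c, π d') is one of (e j, w c), (e j, f j), (w c, f j) (or c' ≠ c'' middle: impossible for d ≤ 1): h0, h1, h2.
-/

theorem RLf1_flp_e (j : Fin r) : (flp j : Equiv.Perm (I3 r d)) (e_ j) = f_ j := Equiv.swap_apply_left _ _

theorem RLf1_flp_f (j : Fin r) : (flp j : Equiv.Perm (I3 r d)) (f_ j) = e_ j := Equiv.swap_apply_right _ _

theorem RLf1_flp_e' {i j : Fin r} (h : i ≠ j) : (flp j : Equiv.Perm (I3 r d)) (e_ i) = e_ i :=
  Equiv.swap_apply_of_ne_of_ne (by simpa using h) (by simp)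

theorem RLf1_flp_f' {i j : Fin r} (h : i ≠ j) : (flp j : Equiv.Perm (I3 r d)) (f_ i) = f_ i :=
  Equiv.swap_apply_of_ne_of_ne (by simp) (by simpa using h)

theorem RLf1_flp_w (j : Fin r) (c : Fin d) : (flp j : Equiv.Perm (I3 r d)) (w_ c) = w_ c :=
  Equiv.swap_apply_of_ne_of_ne (by simp) (by simp)

theorem conj_sL_mem_bor (hd : d ≤ 1) (j : Fin r) (hj : j.val + 1 = r) {X : 𝔾} (hX : X ∈ bor σ r d)
    (h0 : ∀ c, suRho σ X (e_ j) (w_ c) = 0) (h1 : suRho σ X (e_ j) (f_ j) = 0)
    (h2 : ∀ c, suRho σ X (w_ c) (f_ j) = 0) : sL σ ε j * X * (sL σ ε j)⁻¹ ∈ bor σ r d := by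
  rw [mem_bor]
  intro a b hab
  rw [conj_entry' σ (isMono_sL σ ε j) X a b]
  have hπ : (flp j : Equiv.Perm (I3 r d))⁻¹ = flp j := Equiv.swap_inv _ _
  rw [hπ]
  have hX' : ∀ a b, suPos r d b < suPos r d a → suRho σ X a b = 0 := (mem_bor σ).mp hX
  have hval : ∀ i : Fin r, i ≠ j → i.val + 1 < r := by
    intro i hi
    have h1 := i.2
    have h2 : i.val ≠ j.val := fun h => hi (Fin.ext h)
    omega
  have key : suRho σ X (flp j a) (flp j b) = 0 := by
    rcases a with a | a | a <;> rcases b with b | b | b
    · -- e e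
      simp only [suPos] at hab
      by_cases ha : a = j
      · subst ha
        have hb : b ≠ a := by rintro rfl; omega
        rw [RLf1_flp_e, RLf1_flp_e' hb]
        apply hX'; simp only [suPos]; omega
      · by_cases hb : b = j
        · subst hb
          have := hval a ha
          omega
        · rw [RLf1_flp_e' ha, RLf1_flp_e' hb]
          apply hX'; simp only [suPos]; omega
    · simp only [suPos] at hab
      have := a.2
      omega
    · simp only [suPos] at hab
      have := a.2
      omega
    · -- w e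
      by_cases hb : b = j
      · subst hb
        rw [RLf1_flp_w, RLf1_flp_e]
        exact h2 a
      · rw [RLf1_flp_w, RLf1_flp_e' hb]
        apply hX'; exact hab
    · rw [RLf1_flp_w, RLf1_flp_w]
      apply hX'; exact hab
    · simp only [suPos] at hab
      have := a.2
      omega
    · -- f e
      by_cases ha : a = j
      · subst ha
        by_cases hb : b = a
        · subst hb
          rw [RLf1_flp_f, RLf1_flp_e]
          exact h1
        · rw [RLf1_flp_f, RLf1_flp_e' hb]
          have := hval b hb
          apply hX'; simp only [suPos]; omega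
      · by_cases hb : b = j
        · subst hb
          rw [RLf1_flp_f' ha, RLf1_flp_e]
          have := hval a ha
          apply hX'; simp only [suPos]; omega
        · rw [RLf1_flp_f' ha, RLf1_flp_e' hb]
          apply hX'; exact hab
    · -- f w
      by_cases ha : a = j
      · subst ha
        rw [RLf1_flp_f, RLf1_flp_w]
        exact h0 b
      · rw [RLf1_flp_f' ha, RLf1_flp_w]
        apply hX'; exact hab
    · -- f f
      simp only [suPos] at hab
      by_cases ha : a = j
      · subst ha
        omega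
      · by_cases hb : b = j
        · subst hb
          rw [RLf1_flp_f' ha, RLf1_flp_f]
          apply hX'; simp only [suPos]
          have := b.2
          omega
        · rw [RLf1_flp_f' ha, RLf1_flp_f' hb]
          apply hX'; simp only [suPos]; omega
  rw [key, mul_zero, zero_mul]

end Cfsg.Agent.Lib.Helper36.SuBN
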