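import Cfsg.Agent.Lib.Helper36.SuBN.Defs
import Cfsg.Agent.Lib.Helper36.SuBN.G1
import Cfsg.Agent.Lib.Helper36.SuBN.G2
import Cfsg.Agent.Lib.Helper36.SuBN.E2
import Cfsg.Agent.Lib.Helper36.SuBN.N1
import Cfsg.Agent.Lib.Helper36.SuBN.UL1
import Cfsg.Agent.Lib.Helper36.SuBN.RLy

set_option autoImplicit false
set_option linter.unusedSectionVars false
set_option linter.unusedVariables false

namespace Cfsg.Agent.Lib.Helper36.SuBN

open Matrix Cfsg.Agent.Lib.Helper86

variable {r d : ℕ} {K : Type*} [Field K] [Fintype K] (σ : K →+* K) [hσ : Fact (∀ x, σ (σ x) = x)]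
  (ε : K) [hε : Fact (ε ≠ 0 ∧ ε + σ ε = 0)]

local notation "Mrr" => Matrix (Fin r) (Fin r) K
local notation "Mrd" => Matrix (Fin r) (Fin d) K
local notation "Mdr" => Matrix (Fin d) (Fin r) K
local notation "𝕍" => Matrix (I3 r d) (I3 r d) K
local notation "𝔾" => suG σ r d
local notation "e_" i => (Sum.inl i : I3 r d)
local notation "w_" c => (Sum.inr (Sum.inl c) : I3 r d)
local notation "f_" i => (Sum.inr (Sum.inr i) : I3 r d)

/-! PIECE RLr (farm SuBN, helper36).  PROOF SKETCH:
UL_param: u = mX x (s E_jj).  s ≠ 0: otherwise Adm gives x * dg σ x = 0, entry (j,j): Σ_c x j c * σ (x j c) = 0, d ≤ 1 ⇒ x = 0 ⇒ u = 1 (mX_zero).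
ν := (x * dg σ x) j j, x * dg σ x = ν • E_jj (x = E_jj x);  H : R1 σ j x s ν.  By definition H.nW = mY _ _ H.admY1 * mX _ _ H.admX * mY _ _ H.admY2 =: y1 * u * y2 (mX_congr).
So s0 u s0⁻¹ = (s0 y1 s0⁻¹)⁻¹ * (s0 H.nW s0⁻¹) * (s0 y2 s0⁻¹)⁻¹ with s0 = sL σ ε j; s0 y_i s0⁻¹ ∈ UL (conj_mY_mem_UL; hy: dg σ x * E_jj = dg σ x is H.hx', smul).
H.nW is monomial with flp j (R1.nW_val, as in isMono_sL; the middle block 1 + s⁻¹ • (dg σ x * x) is a d × d matrix, d ≤ 1, so trivially "diagonal").
t := s0 * H.nW * s0⁻¹ * s0⁻¹ is monomial with flp j * flp j * (flp j)⁻¹ * (flp j)⁻¹ = 1, so t ∈ tor ≤ bor.  b := (s0 y1 s0⁻¹)⁻¹ * t, u' := (s0 y2 s0⁻¹)⁻¹.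
-/

theorem RLr_isMono_nW (hd : d ≤ 1) {j : Fin r} {x : Mrd} {s ν : K} (H : R1 σ j x s ν) :
    IsMono (suRho σ (H.nW : 𝔾)) (flp j) := by
  rw [H.nW_val]
  rintro (a | a | a) (b | b | b) h
  · have h' : (1 - single j j (1:K) : Mrr) a b ≠ 0 := h
    rw [Matrix.sub_apply, Matrix.one_apply, Matrix.single_apply] at h'
    by_cases hab : a = b
    · subst hab
      by_cases haj : j = a
      · subst haj
        simp at h'
      · unfold flp
        rw [Equiv.swap_apply_of_ne_of_ne]
        · intro h3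
          exact haj (Sum.inl.inj h3).symm
        · simp
    · exfalso
      apply h'
      rw [if_neg hab, if_neg]
      · simp
      · rintro ⟨h1, h2⟩
        exact hab (h1.symm.trans h2)
  · exact absurd rfl h
  · have h' : (s • single j j (1:K) : Mrr) a b ≠ 0 := h
    rw [Matrix.smul_apply, Matrix.single_apply] at h'
    by_cases hab : j = a ∧ j = b
    · obtain ⟨rfl, rfl⟩ := hab
      unfold flp
      rw [Equiv.swap_apply_right]
    · rw [if_neg hab] at h'
      simp at h'
  · exact absurd rfl h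
  · have : a = b := Fin.ext (by have := a.2; have := b.2; omega)
    subst this
    unfold flp
    rw [Equiv.swap_apply_of_ne_of_ne] <;> simp
  · exact absurd rfl h
  · have h' : ((σ s)⁻¹ • single j j (1:K) : Mrr) a b ≠ 0 := h
    rw [Matrix.smul_apply, Matrix.single_apply] at h'
    by_cases hab : j = a ∧ j = b
    · obtain ⟨rfl, rfl⟩ := hab
      unfold flp
      rw [Equiv.swap_apply_left]
    · rw [if_neg hab] at h'
      simp at h'
  · exact absurd rfl h
  · have h' : (1 - single j j (1:K) : Mrr) a b ≠ 0 := h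
    rw [Matrix.sub_apply, Matrix.one_apply, Matrix.single_apply] at h'
    by_cases hab : a = b
    · subst hab
      by_cases haj : j = a
      · subst haj
        simp at h'
      · unfold flp
        rw [Equiv.swap_apply_of_ne_of_ne]
        · simp
        · intro h3
          exact haj (Sum.inr.inj (Sum.inr.inj h3)).symm
    · exfalso
      apply h'
      rw [if_neg hab, if_neg]
      · simp
      · rintro ⟨h1, h2⟩
        exact hab (h1.symm.trans h2)

theorem rank1_L (hd : d ≤ 1) (j : Fin r) {u : 𝔾} (hu : u ∈ UL σ j) (hu1 : u ≠ 1) :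
    ∃ b ∈ bor σ r d, ∃ u' ∈ UL σ j, sL σ ε j * u * (sL σ ε j)⁻¹ = b * sL σ ε j * u' := by
  obtain ⟨x, s, h, hx, rfl⟩ := UL_param σ hd hu
  have hx0 : ∀ a c, a ≠ j → x a c = 0 := by
    intro a c ha
    rw [← hx, Matrix.mul_apply]
    apply Finset.sum_eq_zero
    intro k _
    rw [Matrix.single_apply, if_neg, zero_mul]
    rintro ⟨h1, -⟩
    exact ha h1.symm
  obtain ⟨ν, hν⟩ : ∃ ν, ν = (x * dg σ x) j j := ⟨_, rfl⟩
  have hxx : x * dg σ x = ν • (single j j (1:K) : Mrr) := by
    ext a b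
    rw [Matrix.smul_apply, Matrix.single_apply]
    by_cases ha : a = j
    · by_cases hb : b = j
      · subst ha
        subst hb
        rw [hν]
        simp
      · rw [if_neg (by rintro ⟨-, h2⟩; exact hb h2.symm), smul_zero, Matrix.mul_apply]
        apply Finset.sum_eq_zero
        intro k _
        rw [dg_apply, hx0 b k hb, map_zero, mul_zero]
    · rw [if_neg (by rintro ⟨h2, -⟩; exact ha h2.symm), smul_zero, Matrix.mul_apply]
      apply Finset.sum_eq_zero
      intro k _
      rw [hx0 a k ha, zero_mul]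
  have hs : s + σ s + ν = 0 := by
    have h1 : (s • (single j j (1:K) : Mrr) + dg σ (s • (single j j (1:K) : Mrr)) + x * dg σ x) j j = 0 := by
      have h2 : s • (single j j (1:K) : Mrr) + dg σ (s • (single j j (1:K) : Mrr)) + x * dg σ x = 0 := h
      rw [h2]
      rfl
    rw [Matrix.add_apply, Matrix.add_apply, ← hν, dg_apply, Matrix.smul_apply, Matrix.single_apply_same,
      smul_eq_mul, mul_one] at h1
    exact h1
  have hs0 : s ≠ 0 := by
    intro hs00
    have hν0 : ν = 0 := by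
      rw [hs00, map_zero, zero_add, zero_add] at hs
      exact hs
    have hx00 : x = 0 := by
      ext a c
      by_cases ha : a = j
      · subst ha
        have h3 : ν = x a c * σ (x a c) := by
          rw [hν, Matrix.mul_apply, Finset.sum_eq_single c]
          · rfl
          · intro c' _ hc'
            exact absurd (Fin.ext (by have := c.2; have := c'.2; omega)) hc'
          · intro hc
            exact absurd (Finset.mem_univ _) hc
        rw [hν0] at h3
        rcases mul_eq_zero.mp h3.symm with h4 | h4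
        · exact h4
        · have := hσ.out (x a c)
          rw [h4, map_zero] at this
          exact this.symm
      · exact hx0 a c ha
    apply hu1
    rw [← mX_zero σ]
    exact mX_congr σ hx00 (by rw [hs00, zero_smul]) _ _
  have H : R1 σ j x s ν := ⟨hx, hxx, hs, hs0⟩
  have hnW : (H.nW : 𝔾) = mY σ _ _ H.admY1 * mX σ x (s • single j j 1) h * mY σ _ _ H.admY2 := rfl
  have hy1 := conj_mY_mem_UL σ ε j _ _ H.admY1 (by rw [Matrix.smul_mul, H.hx'])
  have hy2 := conj_mY_mem_UL σ ε j _ _ H.admY2 (by rw [Matrix.smul_mul, H.hx'])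
  have hmono : IsMono (suRho σ (sL σ ε j * H.nW * (sL σ ε j)⁻¹ * (sL σ ε j)⁻¹ : 𝔾)) 1 := by
    have h1 := isMono_sL (r := r) (d := d) σ ε j
    have h2 := RLr_isMono_nW σ hd H
    have h3 := IsMono.inv σ h1
    have h4 := ((h1.mul h2).mul h3).mul h3
    rw [← map_mul, ← map_mul, ← map_mul] at h4
    have h5 : (flp j : Equiv.Perm (I3 r d)) * flp j * (flp j)⁻¹ * (flp j)⁻¹ = 1 := by group
    rw [h5] at h4
    exact h4
  have ht : (sL σ ε j * H.nW * (sL σ ε j)⁻¹ * (sL σ ε j)⁻¹ : 𝔾) ∈ bor σ r d :=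
    tor_le_bor σ (isD_of_isMono_one hmono)
  refine ⟨_, mul_mem (inv_mem (UL_le_bor σ j hy1)) ht, _, inv_mem hy2, ?_⟩
  rw [hnW]
  group

end Cfsg.Agent.Lib.Helper36.SuBN
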