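import Cfsg.Agent.Lib.Helper36.SuBN.Defs
import Cfsg.Agent.Lib.Helper36.SuBN.G1
import Cfsg.Agent.Lib.Helper36.SuBN.W2

set_option autoImplicit false
set_option linter.unusedSectionVars false
set_option linter.unusedVariables false

namespace Cfsg.Agent.Lib.Helper36.SuBN

open Matrix Cfsg.Agent.Lib.Helper86

variable {r d : ℕ} {K : Type*} [Field K] [Fintype K] (σ : K →+* K) [hσ : Fact (∀ x, σ (σ x) = x)]
  (ε : K) [hε : Fact (ε ≠ 0 ∧ ε + σ ε = 0)]

local notation "Mrr" => Matrix (Fin r) (Fin r) K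
local notation "Mrd" => Matrix (Fin r) (Fin d) K
local notation "Mdr" => Matrix (Fin d) (Fin r) K
local notation "𝕍" => Matrix (I3 r d) (I3 r d) K
local notation "𝔾" => suG σ r d
local notation "e_" i => (Sum.inl i : I3 r d)
local notation "w_" c => (Sum.inr (Sum.inl c) : I3 r d)
local notation "f_" i => (Sum.inr (Sum.inr i) : I3 r d)

/-! PIECE W3 (farm SuBN, helper36). -/

theorem W3_list (L : List (Fin r)) :
    ∃ c ∈ Subgroup.closure (SS σ ε r d), IsMono (suRho σ c) (L.map flp).prod := by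
  induction L with
  | nil => exact ⟨1, one_mem _, by rw [map_one]; exact W1_isMono_one⟩
  | cons j L ih =>
    obtain ⟨c, hc, hm⟩ := ih
    obtain ⟨c', hc', hm'⟩ := exists_flp (d := d) σ ε j
    refine ⟨c' * c, mul_mem hc' hc, ?_⟩
    rw [List.map_cons, List.prod_cons, map_mul]
    exact hm'.mul hm

theorem W3_flp_inl (a : Fin r) : (flp a : Equiv.Perm (I3 r d)) (e_ a) = f_ a :=
  Equiv.swap_apply_left _ _

theorem W3_flp_inr (a : Fin r) : (flp a : Equiv.Perm (I3 r d)) (f_ a) = e_ a :=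
  Equiv.swap_apply_right _ _

theorem W3_flp_inl_ne {a j : Fin r} (h : j ≠ a) : (flp a : Equiv.Perm (I3 r d)) (e_ j) = e_ j :=
  Equiv.swap_apply_of_ne_of_ne (by simpa using h) (by simp)

theorem W3_flp_inr_ne {a j : Fin r} (h : j ≠ a) : (flp a : Equiv.Perm (I3 r d)) (f_ j) = f_ j :=
  Equiv.swap_apply_of_ne_of_ne (by simp) (by simpa using h)

theorem W3_flp_mid (a : Fin r) (c : Fin d) : (flp a : Equiv.Perm (I3 r d)) (w_ c) = w_ c :=
  Equiv.swap_apply_of_ne_of_ne (by simp) (by simp)

theorem W3_prod_mid (L : List (Fin r)) (c : Fin d) :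
    ((L.map flp).prod : Equiv.Perm (I3 r d)) (w_ c) = w_ c := by
  induction L with
  | nil => simp
  | cons a L ih =>
    rw [List.map_cons, List.prod_cons, Equiv.Perm.mul_apply, ih, W3_flp_mid]

theorem W3_prod_apply (L : List (Fin r)) (hL : L.Nodup) (j : Fin r) :
    ((L.map flp).prod : Equiv.Perm (I3 r d)) (e_ j) = (if j ∈ L then f_ j else e_ j) ∧
    ((L.map flp).prod : Equiv.Perm (I3 r d)) (f_ j) = (if j ∈ L then e_ j else f_ j) := by
  induction L with
  | nil => simp
  | cons a L ih =>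
    rw [List.nodup_cons] at hL
    obtain ⟨ih1, ih2⟩ := ih hL.2
    rw [List.map_cons, List.prod_cons, Equiv.Perm.mul_apply, Equiv.Perm.mul_apply, ih1, ih2]
    by_cases hja : j = a
    · subst hja
      rw [if_neg hL.1, if_neg hL.1, if_pos List.mem_cons_self, if_pos List.mem_cons_self,
        W3_flp_inl, W3_flp_inr]
      exact ⟨rfl, rfl⟩
    · by_cases hjL : j ∈ L
      · rw [if_pos hjL, if_pos hjL, if_pos (List.mem_cons_of_mem _ hjL),
          if_pos (List.mem_cons_of_mem _ hjL), W3_flp_inl_ne hja, W3_flp_inr_ne hja]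
        exact ⟨rfl, rfl⟩
      · have h3 : j ∉ a :: L := by
          rw [List.mem_cons]
          tauto
        rw [if_neg hjL, if_neg hjL, if_neg h3, if_neg h3, W3_flp_inl_ne hja, W3_flp_inr_ne hja]
        exact ⟨rfl, rfl⟩

theorem exists_swapP : ∃ n₀ ∈ Subgroup.closure (SS σ ε r d), IsMono (suRho σ n₀) (swapP r d) := by
  obtain ⟨c, hc, hm⟩ := W3_list (d := d) σ ε (List.finRange r)
  refine ⟨c, hc, ?_⟩
  have h : (((List.finRange r).map flp).prod : Equiv.Perm (I3 r d)) = swapP r d := by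
    apply Equiv.ext
    intro x
    rcases x with j | c | j
    · rw [(W3_prod_apply _ (List.nodup_finRange r) j).1, if_pos (List.mem_finRange j)]
      rfl
    · rw [W3_prod_mid]
      rfl
    · rw [(W3_prod_apply _ (List.nodup_finRange r) j).2, if_pos (List.mem_finRange j)]
      rfl
  rw [h] at hm
  exact hm

end Cfsg.Agent.Lib.Helper36.SuBN
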